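import Groth.Prelude.Def_FEt
import Mathlib.AlgebraicGeometry.RelativeGluing
import Mathlib.AlgebraicGeometry.Cover.Directed

/-!
Gluing extensions of a finite étale cover of an open subscheme, when restriction is fully faithful.
-/

set_option autoImplicit false
set_option backward.isDefEq.respectTransparency false
set_option backward.isDefEq.respectTransparency.types false
universe u

open CategoryTheory CategoryTheory.Limits AlgebraicGeometry TopologicalSpace

noncomputable section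

namespace Groth.Agent.ExtGlue

variable {X : Scheme.{u}} (U : X.Opens) (Y : FEt.Cat (U : Scheme.{u}))

/-- An extension of the cover to an open. -/
structure Ext (W : X.Opens) where
  E : FEt.Cat (W : Scheme.{u})
  φ : (FEt.restrict (X.homOfLE (inf_le_left : W ⊓ U ≤ W))).obj E ≅
    (FEt.restrict (X.homOfLE (inf_le_right : W ⊓ U ≤ U))).obj Y

variable {U Y}

namespace Ext

variable {W W' W'' : X.Opens} (e : Ext U Y W) (e' : Ext U Y W') (e'' : Ext U Y W'')

/-- The part over `W ⊓ U`. -/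
abbrev part : Scheme.{u} := pullback e.E.hom (X.homOfLE (inf_le_left : W ⊓ U ≤ W))

/-- The map of the part to `Y`. -/
def ψ : e.part ⟶ Y.left :=
  (e.φ.hom.left : e.part ⟶ pullback Y.hom (X.homOfLE (inf_le_right : W ⊓ U ≤ U))) ≫ pullback.fst _ _

theorem isPullback_ψ :
    IsPullback e.ψ (pullback.snd e.E.hom (X.homOfLE (inf_le_left : W ⊓ U ≤ W))) Y.hom
      (X.homOfLE (inf_le_right : W ⊓ U ≤ U)) := by
  let l : e.part ⟶ pullback Y.hom (X.homOfLE (inf_le_right : W ⊓ U ≤ U)) := e.φ.hom.left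
  haveI : IsIso l := inferInstanceAs (IsIso ((MorphismProperty.Over.forget FEt.prop ⊤ _ ⋙ CategoryTheory.Over.forget _).map e.φ.hom))
  refine IsPullback.of_iso_pullback ⟨?_⟩ (asIso l) rfl (MorphismProperty.Over.w e.φ.hom)
  show (l ≫ pullback.fst _ _) ≫ Y.hom = _
  rw [Category.assoc, pullback.condition, ← Category.assoc]
  exact congrArg (· ≫ _) (MorphismProperty.Over.w e.φ.hom)

/-- Compatible maps of extensions. -/
structure IsHom (h : W ≤ W') (m : e.E.left ⟶ e'.E.left) : Prop where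
  w : m ≫ e'.E.hom = e.E.hom ≫ X.homOfLE h
  ex : ∃ m' : e.part ⟶ e'.part, m' ≫ pullback.fst _ _ = pullback.fst _ _ ≫ m ∧
    m' ≫ pullback.snd _ _ = pullback.snd _ _ ≫ X.homOfLE (inf_le_inf_right U h) ∧ m' ≫ e'.ψ = e.ψ

theorem isHom_id : e.IsHom e le_rfl (𝟙 _) :=
  ⟨by simp, 𝟙 _, by simp, by simp, by simp⟩

variable {e e' e''}

theorem IsHom.comp {h : W ≤ W'} {h' : W' ≤ W''} {m : e.E.left ⟶ e'.E.left} {n : e'.E.left ⟶ e''.E.left}
    (hm : e.IsHom e' h m) (hn : e'.IsHom e'' h' n) : e.IsHom e'' (h.trans h') (m ≫ n) := by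
  obtain ⟨m', a, b, c⟩ := hm.ex
  obtain ⟨n', a', b', c'⟩ := hn.ex
  refine ⟨by rw [Category.assoc, hn.w, ← Category.assoc, hm.w, Category.assoc, X.homOfLE_homOfLE], m' ≫ n', ?_, ?_, ?_⟩
  · rw [Category.assoc, a', ← Category.assoc, a, Category.assoc]
  · rw [Category.assoc, b', ← Category.assoc, b, Category.assoc, X.homOfLE_homOfLE]
  · rw [Category.assoc, c', c]

theorem IsHom.eq {h : W ≤ W'} {m n : e.E.left ⟶ e'.E.left} (hm : e.IsHom e' h m) (hn : e.IsHom e' h n)
    (hF : (FEt.restrict (X.homOfLE (inf_le_left : W ⊓ U ≤ W))).Faithful) : m = n := by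
  obtain ⟨m', a, b, c⟩ := hm.ex
  obtain ⟨n', a', b', c'⟩ := hn.ex
  have hmn : m' = n' := e'.isPullback_ψ.hom_ext (c.trans c'.symm) (b.trans b'.symm)
  let F : e.E ⟶ (FEt.restrict (X.homOfLE h)).obj e'.E :=
    MorphismProperty.Over.homMk (pullback.lift m e.E.hom hm.w) (pullback.lift_snd _ _ _)
  let G : e.E ⟶ (FEt.restrict (X.homOfLE h)).obj e'.E :=
    MorphismProperty.Over.homMk (pullback.lift n e.E.hom hn.w) (pullback.lift_snd _ _ _)
  haveI := hF
  have hFG : F = G := (FEt.restrict (X.homOfLE (inf_le_left : W ⊓ U ≤ W))).map_injective <|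
    MorphismProperty.Over.Hom.ext <| by
      simp only [FEt.restrict]
      refine pullback.hom_ext ?_ ?_
      · erw [pullback.lift_fst, pullback.lift_fst]
        refine pullback.hom_ext ?_ ?_
        · erw [Category.assoc, Category.assoc, pullback.lift_fst, pullback.lift_fst]
          exact a.symm.trans (hmn ▸ a')
        · erw [Category.assoc, Category.assoc, pullback.lift_snd, pullback.lift_snd]
      · erw [pullback.lift_snd, pullback.lift_snd]
  have := congrArg (fun f => f.left ≫ pullback.fst e'.E.hom (X.homOfLE h)) hFG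
  simpa [F, G] using this

theorem exists_isHom (h : W ≤ W') (hF : (FEt.restrict (X.homOfLE (inf_le_left : W ⊓ U ≤ W))).Full ∧
      (FEt.restrict (X.homOfLE (inf_le_left : W ⊓ U ≤ W))).Faithful) :
    ∃ m : e.E.left ⟶ e'.E.left, e.IsHom e' h m ∧ IsPullback m e.E.hom e'.E.hom (X.homOfLE h) := by
  let a := X.homOfLE (inf_le_left : W ⊓ U ≤ W)
  let a' := X.homOfLE (inf_le_left : W' ⊓ U ≤ W')
  let i := X.homOfLE (inf_le_inf_right U h : W ⊓ U ≤ W' ⊓ U)
  have hai : a ≫ X.homOfLE h = i ≫ a' := by simp [a, a', i]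
  let E2 := (FEt.restrict (X.homOfLE h)).obj e'.E
  let B := pullback (pullback.snd e'.E.hom (X.homOfLE h)) a
  let u : B ⟶ e'.part := pullback.lift (pullback.fst _ _ ≫ pullback.fst _ _) (pullback.snd _ _ ≫ i)
    (by simp only [Category.assoc]; rw [pullback.condition, ← Category.assoc, pullback.condition, Category.assoc, hai])
  have hu : IsPullback u (pullback.snd _ a) (pullback.snd e'.E.hom a') i := by
    refine IsPullback.of_right ?_ (pullback.lift_snd _ _ _) (IsPullback.of_hasPullback e'.E.hom a')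
    show IsPullback (u ≫ pullback.fst _ _) (pullback.snd _ a) e'.E.hom (i ≫ a')
    rw [pullback.lift_fst, ← hai]
    exact (IsPullback.of_hasPullback _ a).paste_horiz (IsPullback.of_hasPullback e'.E.hom (X.homOfLE h))
  have hB : IsPullback (u ≫ e'.ψ) (pullback.snd _ a) Y.hom (X.homOfLE (inf_le_right : W ⊓ U ≤ U)) := by
    have := hu.paste_horiz e'.isPullback_ψ
    rwa [show i ≫ X.homOfLE (inf_le_right : W' ⊓ U ≤ U) = X.homOfLE (inf_le_right : W ⊓ U ≤ U) from X.homOfLE_homOfLE _ _] at this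
  let T : e.part ≅ B := e.isPullback_ψ.isoPullback ≪≫ hB.isoPullback.symm
  have hT : T.hom ≫ pullback.snd _ a = pullback.snd e.E.hom a := by simp [T]; rfl
  let T' : (FEt.restrict a).obj e.E ≅ (FEt.restrict a).obj E2 := MorphismProperty.Over.isoMk T hT
  haveI := hF.1
  haveI := hF.2
  let f : e.E ≅ E2 := (FEt.restrict a).preimageIso T'
  let fl : e.E.left ≅ pullback e'.E.hom (X.homOfLE h) :=
    (MorphismProperty.Over.forget FEt.prop ⊤ _ ⋙ CategoryTheory.Over.forget _).mapIso f
  have hfw : fl.hom ≫ pullback.snd _ _ = e.E.hom := MorphismProperty.Over.w f.hom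
  have hfT : T.hom ≫ pullback.fst _ a = pullback.fst e.E.hom a ≫ fl.hom := by
    have h1 : (FEt.restrict a).map f.hom = T'.hom := Functor.map_preimage _ _
    have h2 := congrArg (fun t => t.left ≫ pullback.fst (pullback.snd e'.E.hom (X.homOfLE h)) a) h1
    simp only [FEt.restrict] at h2
    erw [pullback.lift_fst] at h2
    exact h2.symm
  refine ⟨fl.hom ≫ pullback.fst _ _, ⟨?_, T.hom ≫ u, ?_, ?_, ?_⟩, ?_⟩
  · rw [Category.assoc, pullback.condition, ← Category.assoc, hfw]
  · rw [Category.assoc, pullback.lift_fst, ← Category.assoc, hfT, Category.assoc]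
  · rw [Category.assoc, pullback.lift_snd, ← Category.assoc, hT]
  · rw [Category.assoc]
    simp only [T, Iso.trans_hom, Iso.symm_hom, Category.assoc]
    rw [hB.isoPullback_inv_fst, e.isPullback_ψ.isoPullback_hom_fst]
  · exact IsPullback.of_iso_pullback ⟨by rw [Category.assoc, pullback.condition, ← Category.assoc, hfw]⟩ fl rfl hfw

end Ext

variable (hB : Opens.IsBasis {W : X.Opens | Nonempty (Ext U Y W)})
  (hF : ∀ W : X.Opens, (FEt.restrict (X.homOfLE (inf_le_left : W ⊓ U ≤ W))).Full ∧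
    (FEt.restrict (X.homOfLE (inf_le_left : W ⊓ U ≤ W))).Faithful)

include hB hF in
theorem exists_extension (hU : Nonempty (Ext U Y U)) :
    ∃ Y' : FEt.Cat X, Nonempty ((FEt.restrict U.ι).obj Y' ≅ Y) := by
  let I := {W : X.Opens // Nonempty (Ext U Y W)}
  let e : (W : I) → Ext U Y W.1 := fun W => W.2.some
  have hcov : (⨆ W : I, W.1) = ⊤ := top_le_iff.1 fun x _ => by
    obtain ⟨W, hW, hxW, -⟩ := Opens.isBasis_iff_nbhd.1 hB (show x ∈ (⊤ : X.Opens) from trivial)
    exact Opens.mem_iSup.2 ⟨⟨W, hW⟩, hxW⟩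
  let 𝒰 : X.OpenCover := X.openCoverOfIsOpenCover (fun W : I => W.1) hcov
  letI : Preorder 𝒰.I₀ := inferInstanceAs (Preorder I)
  letI : 𝒰.LocallyDirected := .ofIsBasisOpensRange
    (fun {i j} => by
      show i.1 ≤ j.1 ↔ (Scheme.Opens.ι i.1).opensRange ≤ (Scheme.Opens.ι j.1).opensRange
      rw [Scheme.Opens.opensRange_ι, Scheme.Opens.opensRange_ι])
    (by
      have : (Set.range fun i : 𝒰.I₀ => (𝒰.f i).opensRange) = {W : X.Opens | Nonempty (Ext U Y W)} := by
        ext W
        constructor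
        · rintro ⟨i, rfl⟩
          show Nonempty (Ext U Y (Scheme.Opens.ι i.1).opensRange)
          rw [Scheme.Opens.opensRange_ι]; exact i.2
        · exact fun hW => ⟨⟨W, hW⟩, Scheme.Opens.opensRange_ι W⟩
      rw [this]; exact hB)
  have htr : ∀ (i j : I) (hij : i ≤ j), 𝒰.trans (i := i) (j := j) (homOfLE hij) = X.homOfLE (show i.1 ≤ j.1 from hij) :=
    fun i j hij => by
      rw [← cancel_mono (Scheme.Opens.ι j.1), X.homOfLE_ι]
      exact 𝒰.trans_map _
  choose m hm hmp using fun (i j : I) (hij : i.1 ≤ j.1) => (e i).exists_isHom (e' := e j) hij (hF i.1)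
  let Fn : 𝒰.I₀ ⥤ Scheme.{u} :=
    { obj := fun i => (e i).E.left
      map := fun {i j} f => m i j (leOfHom f)
      map_id := fun i => (hm i i _).eq (e i).isHom_id (hF i.1).2
      map_comp := fun {i j k} f g => (hm i k _).eq ((hm i j _).comp (hm j k _)) (hF i.1).2 }
  let τ : Fn ⟶ 𝒰.functorOfLocallyDirected :=
    { app := fun i => (e i).E.hom
      naturality := fun i j f => by
        show m i j (leOfHom f) ≫ (e j).E.hom = (e i).E.hom ≫ 𝒰.trans f
        rw [show 𝒰.trans f = X.homOfLE (leOfHom f : i.1 ≤ j.1) from htr i j (leOfHom f)]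
        exact (hm i j (leOfHom f)).w }
  let d : 𝒰.RelativeGluingData :=
    { functor := Fn
      natTrans := τ
      equifibered := fun {i j} f => by
        show IsPullback (m i j (leOfHom f)) (e i).E.hom (e j).E.hom (𝒰.trans f)
        rw [show 𝒰.trans f = X.homOfLE (leOfHom f : i.1 ≤ j.1) from htr i j (leOfHom f)]
        exact hmp i j (leOfHom f) }
  haveI : Quiver.IsThin 𝒰.I₀ := inferInstanceAs (Quiver.IsThin I)
  haveI : Small.{u} 𝒰.I₀ := inferInstanceAs (Small.{u} I)
  haveI : (d.functor ⋙ Scheme.forget).IsLocallyDirected :=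
    Scheme.Cover.RelativeGluingData.instIsLocallyDirectedI₀CompFunctorForgetOfIsThin ..
  haveI : ∀ {i j : 𝒰.I₀} (f : i ⟶ j), IsOpenImmersion (d.functor.map f) := fun {i j} f => by
    refine MorphismProperty.of_isPullback (P := @IsOpenImmersion) (hmp i j (leOfHom f)).flip ?_
    infer_instance
  have hsq : ∀ i : I, IsPullback (e i).E.hom (colimit.ι d.functor i) (Scheme.Opens.ι i.1) d.toBase :=
    fun i => d.isPullback_natTrans_ι_toBase i
  have hprop : FEt.prop d.toBase := by
    constructor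
    · refine IsZariskiLocalAtTarget.of_iSup_eq_top (P := @IsFinite) (fun W : I => W.1) hcov fun W => ?_
      have h1 : IsFinite (e W).E.hom := (e W).E.prop.1
      exact ((MorphismProperty.arrow_mk_iso_iff @IsFinite (Arrow.isoMk ((hsq W).flip.isoPullback ≪≫ (pullbackRestrictIsoRestrict d.toBase W.1)) (Iso.refl _) (by
          simp [← cancel_mono (Scheme.Opens.ι W.1)]))).1 h1)
    · refine IsZariskiLocalAtTarget.of_iSup_eq_top (P := @Etale) (fun W : I => W.1) hcov fun W => ?_
      have h1 : Etale (e W).E.hom := (e W).E.prop.2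
      exact (MorphismProperty.arrow_mk_iso_iff @Etale (Arrow.isoMk ((hsq W).flip.isoPullback ≪≫ (pullbackRestrictIsoRestrict d.toBase W.1)) (Iso.refl _) (by
        simp [← cancel_mono (Scheme.Opens.ι W.1)]))).1 h1
  refine ⟨MorphismProperty.Over.mk ⊤ d.toBase hprop, ⟨?_⟩⟩
  let iU : I := ⟨U, hU⟩
  let eU := e iU
  haveI : IsIso (X.homOfLE (inf_le_left : iU.1 ⊓ U ≤ iU.1)) :=
    ⟨X.homOfLE (le_inf le_rfl le_rfl), by simp, by simp⟩
  haveI : IsIso (X.homOfLE (inf_le_right : iU.1 ⊓ U ≤ U)) :=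
    ⟨X.homOfLE (le_inf le_rfl le_rfl : U ≤ iU.1 ⊓ U), by simp, by simp⟩
  haveI : IsIso eU.ψ := MorphismProperty.of_isPullback (P := MorphismProperty.isomorphisms Scheme) eU.isPullback_ψ.flip
    (inferInstanceAs (IsIso (X.homOfLE (inf_le_right : iU.1 ⊓ U ≤ U))))
  refine MorphismProperty.Over.isoMk ((hsq iU).flip.isoPullback.symm ≪≫
    (asIso (pullback.fst eU.E.hom (X.homOfLE (inf_le_left : iU.1 ⊓ U ≤ iU.1)))).symm ≪≫ asIso eU.ψ) ?_
  show ((hsq iU).flip.isoPullback.inv ≫ inv (pullback.fst _ _) ≫ eU.ψ) ≫ Y.hom = pullback.snd d.toBase U.ι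
  rw [Category.assoc, Category.assoc, eU.isPullback_ψ.w, ← Iso.cancel_iso_hom_left (hsq iU).flip.isoPullback,
    Iso.hom_inv_id_assoc, (hsq iU).flip.isoPullback_hom_snd, IsIso.inv_comp_eq]
  exact pullback.condition.symm

end Groth.Agent.ExtGlue
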